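import Cfsg.Agent.Lib.Helper9.TCData.Fi22C3.S0
import Cfsg.Agent.Lib.Helper9.TCData.Fi22C3.S1
import Cfsg.Agent.Lib.Helper9.TCData.Fi22C3.S2
import Cfsg.Agent.Lib.Helper9.TCData.Fi22C3.S3
import Cfsg.Agent.Lib.Helper9.TCData.Fi22C3.S4
import Cfsg.Agent.Lib.Helper9.TCData.Fi22C3.S5
import Cfsg.Agent.Lib.Helper9.TCData.Fi22C3.S6
import Cfsg.Agent.Lib.Helper9.TCData.Fi22C3.S7
import Cfsg.Agent.Lib.Helper9.TCData.Fi22C3.S8

set_option autoImplicit false
set_option maxRecDepth 1000000

namespace Cfsg.Agent.Helper9.TCData.Fi22C3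
open Cfsg.Agent.Helper9.TC2


theorem hE0 : ∀ u < 5040, chkE tab 0 u = true := by
  have h0 : ∀ u < 0, (fun u => chkE tab 0 u) u = true := range_zero
  have h1 : ∀ u < 2701, (fun u => chkE tab 0 u) u = true := ext_range (a := 0) (len := 2701) h0 e0_0
  have h2 : ∀ u < 5040, (fun u => chkE tab 0 u) u = true := ext_range (a := 2701) (len := 2339) h1 e0_1
  exact h2

theorem hE1 : ∀ u < 5040, chkE tab 1 u = true := by
  have h0 : ∀ u < 0, (fun u => chkE tab 1 u) u = true := range_zero
  have h1 : ∀ u < 2797, (fun u => chkE tab 1 u) u = true := ext_range (a := 0) (len := 2797) h0 e1_0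
  have h2 : ∀ u < 5040, (fun u => chkE tab 1 u) u = true := ext_range (a := 2797) (len := 2243) h1 e1_1
  exact h2

theorem hE2 : ∀ u < 5040, chkE tab 2 u = true := by
  have h0 : ∀ u < 0, (fun u => chkE tab 2 u) u = true := range_zero
  have h1 : ∀ u < 2965, (fun u => chkE tab 2 u) u = true := ext_range (a := 0) (len := 2965) h0 e2_0
  have h2 : ∀ u < 5040, (fun u => chkE tab 2 u) u = true := ext_range (a := 2965) (len := 2075) h1 e2_1
  exact h2

theorem hE3 : ∀ u < 5040, chkE tab 3 u = true := by
  have h0 : ∀ u < 0, (fun u => chkE tab 3 u) u = true := range_zero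
  have h1 : ∀ u < 3064, (fun u => chkE tab 3 u) u = true := ext_range (a := 0) (len := 3064) h0 e3_0
  have h2 : ∀ u < 5040, (fun u => chkE tab 3 u) u = true := ext_range (a := 3064) (len := 1976) h1 e3_1
  exact h2

theorem hE4 : ∀ u < 5040, chkE tab 4 u = true := by
  have h0 : ∀ u < 0, (fun u => chkE tab 4 u) u = true := range_zero
  have h1 : ∀ u < 3110, (fun u => chkE tab 4 u) u = true := ext_range (a := 0) (len := 3110) h0 e4_0
  have h2 : ∀ u < 5040, (fun u => chkE tab 4 u) u = true := ext_range (a := 3110) (len := 1930) h1 e4_1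
  exact h2

theorem hE5 : ∀ u < 5040, chkE tab 5 u = true := by
  have h0 : ∀ u < 0, (fun u => chkE tab 5 u) u = true := range_zero
  have h1 : ∀ u < 3017, (fun u => chkE tab 5 u) u = true := ext_range (a := 0) (len := 3017) h0 e5_0
  have h2 : ∀ u < 5040, (fun u => chkE tab 5 u) u = true := ext_range (a := 3017) (len := 2023) h1 e5_1
  exact h2

theorem hL : ∀ u < 5040, chkL tab u = true := by
  have h0 : ∀ u < 0, (fun u => chkL tab u) u = true := range_zero
  have h1 : ∀ u < 5040, (fun u => chkL tab u) u = true := ext_range (a := 0) (len := 5040) h0 l_0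
  exact h1

theorem hF : ∀ u < 5040, chkFin tab u = true := by
  have h0 : ∀ u < 0, (fun u => chkFin tab u) u = true := range_zero
  have h1 : ∀ u < 400, (fun u => chkFin tab u) u = true := ext_range (a := 0) (len := 400) h0 f_0
  have h2 : ∀ u < 800, (fun u => chkFin tab u) u = true := ext_range (a := 400) (len := 400) h1 f_1
  have h3 : ∀ u < 1200, (fun u => chkFin tab u) u = true := ext_range (a := 800) (len := 400) h2 f_2
  have h4 : ∀ u < 1600, (fun u => chkFin tab u) u = true := ext_range (a := 1200) (len := 400) h3 f_3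
  have h5 : ∀ u < 2000, (fun u => chkFin tab u) u = true := ext_range (a := 1600) (len := 400) h4 f_4
  have h6 : ∀ u < 2400, (fun u => chkFin tab u) u = true := ext_range (a := 2000) (len := 400) h5 f_5
  have h7 : ∀ u < 2800, (fun u => chkFin tab u) u = true := ext_range (a := 2400) (len := 400) h6 f_6
  have h8 : ∀ u < 3200, (fun u => chkFin tab u) u = true := ext_range (a := 2800) (len := 400) h7 f_7
  have h9 : ∀ u < 3600, (fun u => chkFin tab u) u = true := ext_range (a := 3200) (len := 400) h8 f_8
  have h10 : ∀ u < 4000, (fun u => chkFin tab u) u = true := ext_range (a := 3600) (len := 400) h9 f_9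
  have h11 : ∀ u < 4400, (fun u => chkFin tab u) u = true := ext_range (a := 4000) (len := 400) h10 f_10
  have h12 : ∀ u < 4800, (fun u => chkFin tab u) u = true := ext_range (a := 4400) (len := 400) h11 f_11
  have h13 : ∀ u < 5040, (fun u => chkFin tab u) u = true := ext_range (a := 4800) (len := 240) h12 f_12
  exact h13

theorem hC : ∀ u < 5040, chkCls tab u = true := by
  have h0 : ∀ u < 0, (fun u => chkCls tab u) u = true := range_zero
  have h1 : ∀ u < 2667, (fun u => chkCls tab u) u = true := ext_range (a := 0) (len := 2667) h0 c_0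
  have h2 : ∀ u < 5040, (fun u => chkCls tab u) u = true := ext_range (a := 2667) (len := 2373) h1 c_1
  exact h2

theorem hM1 : ∀ u < 5040, chkM1 tab u = true := by
  have h0 : ∀ u < 0, (fun u => chkM1 tab u) u = true := range_zero
  have h1 : ∀ u < 1039, (fun u => chkM1 tab u) u = true := ext_range (a := 0) (len := 1039) h0 m1_0
  have h2 : ∀ u < 2078, (fun u => chkM1 tab u) u = true := ext_range (a := 1039) (len := 1039) h1 m1_1
  have h3 : ∀ u < 3117, (fun u => chkM1 tab u) u = true := ext_range (a := 2078) (len := 1039) h2 m1_2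
  have h4 : ∀ u < 4156, (fun u => chkM1 tab u) u = true := ext_range (a := 3117) (len := 1039) h3 m1_3
  have h5 : ∀ u < 5040, (fun u => chkM1 tab u) u = true := ext_range (a := 4156) (len := 884) h4 m1_4
  exact h5

theorem hM2 : ∀ u < 5040, chkFix tab mwords u = true := by
  have h0 : ∀ u < 0, (fun u => chkFix tab mwords u) u = true := range_zero
  have h1 : ∀ u < 191, (fun u => chkFix tab mwords u) u = true := ext_range (a := 0) (len := 191) h0 m2_0
  have h2 : ∀ u < 382, (fun u => chkFix tab mwords u) u = true := ext_range (a := 191) (len := 191) h1 m2_1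
  have h3 : ∀ u < 573, (fun u => chkFix tab mwords u) u = true := ext_range (a := 382) (len := 191) h2 m2_2
  have h4 : ∀ u < 764, (fun u => chkFix tab mwords u) u = true := ext_range (a := 573) (len := 191) h3 m2_3
  have h5 : ∀ u < 955, (fun u => chkFix tab mwords u) u = true := ext_range (a := 764) (len := 191) h4 m2_4
  have h6 : ∀ u < 1146, (fun u => chkFix tab mwords u) u = true := ext_range (a := 955) (len := 191) h5 m2_5
  have h7 : ∀ u < 1337, (fun u => chkFix tab mwords u) u = true := ext_range (a := 1146) (len := 191) h6 m2_6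
  have h8 : ∀ u < 1528, (fun u => chkFix tab mwords u) u = true := ext_range (a := 1337) (len := 191) h7 m2_7
  have h9 : ∀ u < 1719, (fun u => chkFix tab mwords u) u = true := ext_range (a := 1528) (len := 191) h8 m2_8
  have h10 : ∀ u < 1910, (fun u => chkFix tab mwords u) u = true := ext_range (a := 1719) (len := 191) h9 m2_9
  have h11 : ∀ u < 2101, (fun u => chkFix tab mwords u) u = true := ext_range (a := 1910) (len := 191) h10 m2_10
  have h12 : ∀ u < 2292, (fun u => chkFix tab mwords u) u = true := ext_range (a := 2101) (len := 191) h11 m2_11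
  have h13 : ∀ u < 2483, (fun u => chkFix tab mwords u) u = true := ext_range (a := 2292) (len := 191) h12 m2_12
  have h14 : ∀ u < 2674, (fun u => chkFix tab mwords u) u = true := ext_range (a := 2483) (len := 191) h13 m2_13
  have h15 : ∀ u < 2865, (fun u => chkFix tab mwords u) u = true := ext_range (a := 2674) (len := 191) h14 m2_14
  have h16 : ∀ u < 3056, (fun u => chkFix tab mwords u) u = true := ext_range (a := 2865) (len := 191) h15 m2_15
  have h17 : ∀ u < 3247, (fun u => chkFix tab mwords u) u = true := ext_range (a := 3056) (len := 191) h16 m2_16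
  have h18 : ∀ u < 3438, (fun u => chkFix tab mwords u) u = true := ext_range (a := 3247) (len := 191) h17 m2_17
  have h19 : ∀ u < 3629, (fun u => chkFix tab mwords u) u = true := ext_range (a := 3438) (len := 191) h18 m2_18
  have h20 : ∀ u < 3820, (fun u => chkFix tab mwords u) u = true := ext_range (a := 3629) (len := 191) h19 m2_19
  have h21 : ∀ u < 4011, (fun u => chkFix tab mwords u) u = true := ext_range (a := 3820) (len := 191) h20 m2_20
  have h22 : ∀ u < 4202, (fun u => chkFix tab mwords u) u = true := ext_range (a := 4011) (len := 191) h21 m2_21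
  have h23 : ∀ u < 4393, (fun u => chkFix tab mwords u) u = true := ext_range (a := 4202) (len := 191) h22 m2_22
  have h24 : ∀ u < 4584, (fun u => chkFix tab mwords u) u = true := ext_range (a := 4393) (len := 191) h23 m2_23
  have h25 : ∀ u < 4775, (fun u => chkFix tab mwords u) u = true := ext_range (a := 4584) (len := 191) h24 m2_24
  have h26 : ∀ u < 4966, (fun u => chkFix tab mwords u) u = true := ext_range (a := 4775) (len := 191) h25 m2_25
  have h27 : ∀ u < 5040, (fun u => chkFix tab mwords u) u = true := ext_range (a := 4966) (len := 74) h26 m2_26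
  exact h27

theorem hE : ∀ c < 6, ∀ u < 5040, chkE tab c u = true := by
  intro c hc
  interval_cases c
  · exact hE0
  · exact hE1
  · exact hE2
  · exact hE3
  · exact hE4
  · exact hE5

end Cfsg.Agent.Helper9.TCData.Fi22C3
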